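import Mathlib

/-!
Elementary tools: invariant elementary abelian subgroups under a four-group, Sylow conjugation
inside subgroups, exponent arithmetic in a cyclic 2-group.
-/

set_option autoImplicit false

namespace CfsgLib.RankOneSemisimple

variable {G : Type*} [Group G]

/-- Two elements of order at most two in `A` commuting with each other and with a common
nontrivial element of `U` are dependent. -/
def FixRankOne (A U : Subgroup G) : Prop :=
  ∀ u ∈ U, u ≠ 1 → ∀ a ∈ A, ∀ b ∈ A, a * a = 1 → b * b = 1 → a * b = b * a →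
    u * a = a * u → u * b = b * u → a = 1 ∨ b = 1 ∨ a = b

theorem inv_self {x : G} (hx : x * x = 1) : x⁻¹ = x := inv_eq_of_mul_eq_one_right hx

/-- A four-group with `FixRankOne` normalizes no elementary abelian 2-subgroup of `A` of order
at least 4. -/
theorem eq_or_of_invariant {A U E : Subgroup G} (hfix : FixRankOne A U)
    {u v : G} (hu : u ∈ U) (hv : v ∈ U) (hu1 : u ≠ 1) (hv1 : v ≠ 1) (huv : u ≠ v)
    (hu2 : u * u = 1) (hv2 : v * v = 1) (hc : u * v = v * u)
    (hEA : E ≤ A) (h2 : ∀ x ∈ E, x * x = 1)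
    (huE : ∀ x ∈ E, u * x * u ∈ E) (hvE : ∀ x ∈ E, v * x * v ∈ E)
    {x y : G} (hx : x ∈ E) (hy : y ∈ E) (hx1 : x ≠ 1) (hy1 : y ≠ 1) : x = y := by
  have hcomm : ∀ a ∈ E, ∀ b ∈ E, a * b = b * a := fun a ha b hb => by
    have := h2 _ (E.mul_mem ha hb)
    calc a * b = (a * b)⁻¹ := (inv_self this).symm
      _ = b * a := by rw [mul_inv_rev, inv_self (h2 a ha), inv_self (h2 b hb)]
  have huv1 : u * v ≠ 1 := fun h => huv (by
    calc u = u * (v * v) := by rw [hv2, mul_one]
      _ = v := by rw [← mul_assoc, h, one_mul])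
  have huniq : ∀ w ∈ U, w ≠ 1 → ∀ a ∈ E, ∀ b ∈ E, w * a = a * w → w * b = b * w →
      a ≠ 1 → b ≠ 1 → a = b := fun w hw hw1 a ha b hb ca cb ha1 hb1 =>
    ((hfix w hw hw1 a (hEA ha) b (hEA hb) (h2 a ha) (h2 b hb) (hcomm a ha b hb) ca cb).resolve_left
      ha1).resolve_left hb1
  -- a fixed point of u
  obtain ⟨a, ha, hua, ha1⟩ : ∃ a ∈ E, u * a = a * u ∧ a ≠ 1 := by
    by_cases h : u * x * u = x
    · exact ⟨x, hx, by
        calc u * x = u * x * (u * u) := by rw [hu2, mul_one]
          _ = u * x * u * u := by group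
          _ = x * u := by rw [h], hx1⟩
    · refine ⟨x * (u * x * u), E.mul_mem hx (huE x hx), ?_, fun e => h ?_⟩
      · rw [hcomm x hx _ (huE x hx)]
        calc u * (u * x * u * x) = (u * u) * x * u * x := by group
          _ = (x * (u * x * u)) * u * (u * x * u * x)⁻¹ * (u * x * u * x) := by
              rw [inv_mul_cancel_right, hu2, one_mul]
              calc x * u * x = x * u * x * (u * u) := by rw [hu2, mul_one]
                _ = x * (u * x * u) * u := by group
          _ = _ := by rw [inv_mul_cancel_right, hcomm x hx _ (huE x hx)]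
      · rw [eq_inv_of_mul_eq_one_right e, inv_self (h2 x hx)]
  have hva : v * a = a * v := by
    have hfixed : u * (v * a * v) = v * a * v * u := by
      calc u * (v * a * v) = (u * v) * a * v := by group
        _ = v * (u * a) * v := by rw [hc]; group
        _ = v * a * (u * v) := by rw [hua]; group
        _ = v * a * v * u := by rw [hc]; group
    have hne : v * a * v ≠ 1 := fun e => ha1 (by
      calc a = (v * v) * a * (v * v) := by rw [hv2, one_mul, mul_one]
        _ = v * (v * a * v) * v := by group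
        _ = 1 := by rw [e, mul_one, hv2])
    have := huniq u hu hu1 _ (hvE a ha) a ha hfixed hua hne ha1
    calc v * a = v * a * (v * v) := by rw [hv2, mul_one]
      _ = v * a * v * v := by group
      _ = a * v := by rw [this]
  have hwa : u * v * a = a * (u * v) := by rw [mul_assoc, hva, ← mul_assoc, hua, mul_assoc]
  by_contra hxy
  obtain ⟨b, hb, hb1, hba⟩ : ∃ b ∈ E, b ≠ 1 ∧ b ≠ a := by
    by_cases h : x = a
    · exact ⟨y, hy, hy1, fun e => hxy (h.trans e.symm)⟩
    · exact ⟨x, hx, hx1, h⟩
  have key : ∀ w ∈ U, w ≠ 1 → w * w = 1 → (∀ x ∈ E, w * x * w ∈ E) → w * a = a * w →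
      w * b * w = b * a := by
    intro w hw hw1 hw2 hwE hwa
    set c := b * (w * b * w) with hc'
    have hcE : c ∈ E := E.mul_mem hb (hwE b hb)
    have hwc : w * c = c * w := by
      rw [hc', hcomm b hb _ (hwE b hb)]
      calc w * (w * b * w * b) = (w * w) * b * w * b := by group
        _ = b * w * b * (w * w) := by rw [hw2, one_mul, mul_one]
        _ = b * (w * b * w) * w := by group
        _ = w * b * w * b * w := by rw [hcomm b hb _ (hwE b hb)]
    have hc1 : c ≠ 1 := fun e => hba (huniq w hw hw1 b hb a ha (by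
      have h : w * b * w = b := by rw [eq_inv_of_mul_eq_one_right e, inv_self (h2 b hb)]
      calc w * b = w * b * (w * w) := by rw [hw2, mul_one]
        _ = w * b * w * w := by group
        _ = b * w := by rw [h]) hwa hb1 ha1)
    have hca := huniq w hw hw1 c hcE a ha hwc hwa hc1 ha1
    calc w * b * w = b * b * (w * b * w) := by rw [h2 b hb, one_mul]
      _ = b * c := by rw [hc', mul_assoc]
      _ = b * a := by rw [hca]
  have e1 := key u hu hu1 hu2 huE hua
  have e2 := key v hv hv1 hv2 hvE hva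
  have e3 := key (u * v) (U.mul_mem hu hv) huv1 (by
    calc u * v * (u * v) = u * (v * u) * v := by group
      _ = (u * u) * (v * v) := by rw [← hc]; group
      _ = 1 := by rw [hu2, hv2, one_mul]) (fun t ht => by
    have := huE _ (hvE t ht)
    have e : u * v * t * (u * v) = u * (v * t * v) * u := by
      rw [show u * v * t * (u * v) = u * v * t * (v * u) by rw [hc]]; group
    rw [e]; exact this) hwa
  have : u * v * b * (u * v) = b := by
    calc u * v * b * (u * v) = u * v * b * (v * u) := by rw [hc]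
      _ = u * (v * b * v) * u := by group
      _ = u * (b * a) * u := by rw [e2]
      _ = u * b * (u * u) * a * u := by rw [hu2]; group
      _ = (u * b * u) * (u * a) * u := by group
      _ = (b * a) * (a * u) * u := by rw [e1, hua]
      _ = b * (a * a) * (u * u) := by group
      _ = b := by rw [h2 a ha, hu2, mul_one, mul_one]
  rw [this] at e3
  exact ha1 (left_eq_mul.1 e3)

variable [Finite G]

/-- Sylow conjugation inside a subgroup. -/
theorem exists_conj_mem_of_relIndex_odd {p : ℕ} [Fact p.Prime] {K S : Subgroup G} (hSK : S ≤ K)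
    (hS : IsPGroup p S) (hodd : ¬ p ∣ S.relIndex K) {P : Subgroup G} (hPK : P ≤ K)
    (hP : IsPGroup p P) : ∃ c ∈ K, ∀ x ∈ P, c * x * c⁻¹ ∈ S := by
  have hS' : IsPGroup p (S.subgroupOf K) :=
    hS.of_equiv (Subgroup.subgroupOfEquivOfLe hSK).symm
  let S₁ : Sylow p K := hS'.toSylow hodd
  have hP' : IsPGroup p (P.subgroupOf K) :=
    hP.of_equiv (Subgroup.subgroupOfEquivOfLe hPK).symm
  obtain ⟨Q, hQ⟩ := hP'.exists_le_sylow
  obtain ⟨c, hc⟩ := MulAction.exists_smul_eq K Q S₁
  refine ⟨c, c.2, fun x hx => ?_⟩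
  have hxQ : (⟨x, hPK hx⟩ : K) ∈ Q := hQ (Subgroup.mem_subgroupOf.2 hx)
  have : c * ⟨x, hPK hx⟩ * c⁻¹ ∈ (S₁ : Subgroup K) := by
    rw [← hc, Sylow.coe_subgroup_smul]
    exact Subgroup.smul_mem_pointwise_smul _ (MulAut.conj c) _ hxQ
  exact Subgroup.mem_subgroupOf.1 this

/-- In an abelian 2-group, at most one involution forces cyclicity. -/
theorem isCyclic_of_unique_involution {R : Subgroup G} (hR : IsPGroup 2 R)
    (hab : ∀ a ∈ R, ∀ b ∈ R, a * b = b * a)
    (huniq : ∀ a ∈ R, ∀ b ∈ R, a * a = 1 → b * b = 1 → a ≠ 1 → b ≠ 1 → a = b) :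
    IsCyclic R := by
  haveI : Fact (Nat.Prime 2) := ⟨Nat.prime_two⟩
  letI : CommGroup R := { (inferInstance : Group R) with
    mul_comm := fun a b => Subtype.ext (hab _ a.2 _ b.2) }
  classical
  haveI : Fintype R := Fintype.ofFinite _
  refine isCyclic_of_card_pow_eq_one_le (α := R) ?_
  intro n hn
  -- induct on the two-part of n
  have key : ∀ k : ℕ, (Finset.univ.filter fun a : R => a ^ (2 ^ k) = 1).card ≤ 2 ^ k := by
    intro k
    induction k with
    | zero =>
      simp only [pow_zero, pow_one]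
      refine (Finset.card_le_one.2 ?_)
      intro a ha b hb
      rw [(Finset.mem_filter.1 ha).2, (Finset.mem_filter.1 hb).2]
    | succ k ih =>
      set s := Finset.univ.filter fun a : R => a ^ (2 ^ (k + 1)) = 1
      have hmap : ∀ a ∈ s, a * a ∈ Finset.univ.filter fun a : R => a ^ (2 ^ k) = 1 := by
        intro a ha
        simp only [Finset.mem_filter, Finset.mem_univ, true_and, s] at ha ⊢
        rw [← pow_two, ← pow_mul, ← ha, pow_succ']
      refine le_trans (Finset.card_le_mul_card_image_of_maps_to hmap 2 ?_) ?_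
      · intro b _
        by_contra hlt
        obtain ⟨x, y, w, hx, hy, hw, hxy, hxw, hyw⟩ := Finset.two_lt_card_iff.1 (not_le.1 hlt)
        simp only [Finset.mem_filter] at hx hy hw
        have h1 : ∀ {p q : R}, p * p = b → q * q = b → p⁻¹ * q * (p⁻¹ * q) = 1 := by
          intro p q hp hq
          rw [mul_mul_mul_comm, hq, ← mul_inv, hp, inv_mul_cancel]
        have hne : ∀ {p q : R}, p ≠ q → ((p⁻¹ * q : R) : G) ≠ 1 := by
          intro p q hpq h
          exact hpq (inv_mul_eq_one.1 (Subtype.ext h))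
        have hu := huniq _ (x⁻¹ * y).2 _ (x⁻¹ * w).2
          (congrArg Subtype.val (h1 hx.2 hy.2)) (congrArg Subtype.val (h1 hx.2 hw.2))
          (hne hxy) (hne hxw)
        exact hyw (mul_left_cancel (Subtype.ext hu))
      · calc 2 * _ ≤ 2 * 2 ^ k := Nat.mul_le_mul_left 2 ih
          _ = 2 ^ (k + 1) := by rw [pow_succ]; ring
  obtain ⟨k, m, hm, rfl⟩ := Nat.exists_eq_two_pow_mul_odd hn.ne'
  refine le_trans (Finset.card_le_card ?_) ((key k).trans (Nat.le_mul_of_pos_right _ hm.pos))
  intro a ha
  simp only [Finset.mem_filter, Finset.mem_univ, true_and] at ha ⊢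
  obtain ⟨e, he⟩ := IsPGroup.iff_orderOf.1 hR a
  have hd := orderOf_dvd_of_pow_eq_one ha
  rw [he] at hd
  have : 2 ^ e ∣ 2 ^ k := (Nat.Coprime.pow_left e (Nat.coprime_two_left.2 hm)).dvd_of_dvd_mul_right hd
  exact orderOf_dvd_iff_pow_eq_one.1 (he ▸ this)

end CfsgLib.RankOneSemisimple
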