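import Cfsg.Agent.RankOneSemisimple.Tools
import Cfsg.Agent.Transfer.ThompsonTransfer

/-!
A perfect normal subgroup `A` acted on by a four-group `U`, such that no nontrivial element of `U`
centralizes a four-subgroup of `A`, has 2-rank at most one.
-/

set_option autoImplicit false

namespace CfsgLib.RankOneSemisimple

open Subgroup

variable {G : Type*} [Group G] [Finite G]

/-- `[r^x, r^y]` arithmetic: equality of powers as congruence. -/
theorem zpow_eq_iff_dvd {r : G} {x y : ℤ} : r ^ x = r ^ y ↔ (orderOf r : ℤ) ∣ x - y := by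
  rw [← mul_inv_eq_one, ← zpow_neg, ← zpow_add, ← orderOf_dvd_iff_zpow_eq_one, sub_eq_add_neg]

theorem conj_zpow' {r g : G} {k : ℤ} (h : g * r * g⁻¹ = r ^ k) (x : ℤ) :
    g * r ^ x * g⁻¹ = r ^ (k * x) := by
  rw [← conj_zpow, h, ← zpow_mul]

/-- A conjugate of an element acting on a cyclic subgroup induces the same power map. -/
theorem conj_same_action {r t s : G} {k a : ℤ} (hs : s * r * s⁻¹ = r ^ k)
    (ht : t * r * t⁻¹ = r ^ a) {b : ℤ} (ht' : t⁻¹ * r * t = r ^ b) :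
    t * s * t⁻¹ * r * (t * s * t⁻¹)⁻¹ = r ^ k := by
  have h1 : t * r ^ b * t⁻¹ = r := by rw [← ht']; group
  calc t * s * t⁻¹ * r * (t * s * t⁻¹)⁻¹ = t * (s * (t⁻¹ * r * t) * s⁻¹) * t⁻¹ := by group
    _ = t * (r ^ b) ^ k * t⁻¹ := by rw [ht', conj_zpow' hs, mul_comm, zpow_mul]
    _ = r ^ k := by rw [← conj_zpow, h1]

theorem exists_inverse_odd (n : ℕ) {w : ℤ} (hw : Odd w) : ∃ w' : ℤ, ((2 : ℤ) ^ n) ∣ w * w' - 1 := by
  have hc : IsCoprime w ((2 : ℤ) ^ n) := by
    refine IsCoprime.pow_right ?_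
    obtain ⟨j, rfl⟩ := hw
    exact ⟨1, -j, by ring⟩
  obtain ⟨a, b, h⟩ := hc
  exact ⟨a, -b, by linear_combination h⟩

/-- The structure of a noncyclic 2-group without invariant four-groups. -/
theorem structure_of_no_invariant_four (T S : Subgroup G) (hT : IsPGroup 2 T) (hST : S ≤ T)
    (hSn : ∀ t ∈ T, ∀ s ∈ S, t * s * t⁻¹ ∈ S)
    (hno : ∀ E : Subgroup G, E ≤ S → (∀ x ∈ E, x * x = 1) → (∀ t ∈ T, ∀ x ∈ E, t * x * t⁻¹ ∈ E) →
      ∀ x ∈ E, ∀ y ∈ E, x ≠ 1 → y ≠ 1 → x = y)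
    {a b : G} (haS : a ∈ S) (hbS : b ∈ S) (ha : a * a = 1) (hb : b * b = 1) (hab : a * b = b * a)
    (ha1 : a ≠ 1) (hb1 : b ≠ 1) (hne : a ≠ b) :
    ∃ (r : G) (n : ℕ), 2 ≤ n ∧ orderOf r = 2 ^ n ∧ r ∈ S ∧
      (∀ t ∈ T, ∃ k : ℤ, t * r * t⁻¹ = r ^ k) ∧
      ∃ i ∈ S, i ∉ zpowers r ∧ i * i = 1 ∧ (∀ s ∈ S, s ∈ zpowers r ∨ i * s ∈ zpowers r) ∧
        ∃ k δ : ℤ, i * r * i⁻¹ = r ^ k ∧ k + 1 = 2 ^ (n - 1) * δ ∧ k % 4 = 3 := by
  classical
  haveI : Fact (Nat.Prime 2) := ⟨Nat.prime_two⟩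
  -- abelian subgroups of `S` invariant under `T`
  set 𝒜 : Set (Subgroup G) := {R | R ≤ S ∧ (∀ x ∈ R, ∀ y ∈ R, x * y = y * x) ∧
    ∀ t ∈ T, ∀ x ∈ R, t * x * t⁻¹ ∈ R}
  have hbot : ⊥ ∈ 𝒜 := ⟨bot_le, fun x hx y hy => by simp [mem_bot.1 hx, mem_bot.1 hy],
    fun t _ x hx => by simp [mem_bot.1 hx]⟩
  obtain ⟨R, hR⟩ := (Set.toFinite 𝒜).exists_maximal ⟨⊥, hbot⟩
  obtain ⟨hRS, hRc, hRn⟩ : R ≤ S ∧ (∀ x ∈ R, ∀ y ∈ R, x * y = y * x) ∧
    ∀ t ∈ T, ∀ x ∈ R, t * x * t⁻¹ ∈ R := hR.1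
  have hRmax : ∀ R' ∈ 𝒜, R ≤ R' → R' ≤ R := fun R' h1 h2 => hR.2 h1 h2
  have hRp : IsPGroup 2 R := hT.to_le (hRS.trans hST)
  have hRuniq : ∀ x ∈ R, ∀ y ∈ R, x * x = 1 → y * y = 1 → x ≠ 1 → y ≠ 1 → x = y := by
    intro x hx y hy hx2 hy2
    let E : Subgroup G :=
      { carrier := {x | x ∈ R ∧ x * x = 1}
        one_mem' := ⟨R.one_mem, one_mul 1⟩
        mul_mem' := fun {p q} hp hq => ⟨R.mul_mem hp.1 hq.1, by
          rw [mul_assoc, ← mul_assoc q, hRc q hq.1 p hp.1, mul_assoc p q, hq.2, mul_one, hp.2]⟩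
        inv_mem' := fun {p} hp => ⟨R.inv_mem hp.1, by rw [← mul_inv_rev, hp.2, inv_one]⟩ }
    exact hno E (fun e he => hRS he.1) (fun e he => he.2)
      (fun t ht e he => ⟨hRn t ht e he.1, by rw [conj_mul, he.2, mul_one, mul_inv_cancel]⟩)
      x ⟨hx, hx2⟩ y ⟨hy, hy2⟩
  -- self-centralizing
  have hself : ∀ s ∈ S, (∀ x ∈ R, s * x = x * s) → s ∈ R := by
    by_contra hcon
    simp only [not_forall] at hcon
    obtain ⟨s₀, hs₀S, hs₀c, hs₀R⟩ := hcon
    let C : Subgroup G := S ⊓ centralizer (R : Set G)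
    have hCn : ∀ t ∈ T, ∀ c ∈ C, t * c * t⁻¹ ∈ C := fun t ht c hc => by
      refine ⟨hSn t ht c hc.1, mem_centralizer_iff.2 fun x hx => ?_⟩
      have h1 := mem_centralizer_iff.1 hc.2 _ (hRn t⁻¹ (T.inv_mem ht) x hx)
      rw [inv_inv] at h1
      calc x * (t * c * t⁻¹) = t * (t⁻¹ * x * t * c) * t⁻¹ := by group
        _ = t * (c * (t⁻¹ * x * t)) * t⁻¹ := by rw [h1]
        _ = t * c * t⁻¹ * x := by group
    haveI hR' : (R.subgroupOf T).Normal :=
      ⟨fun x hx g => mem_subgroupOf.2 (hRn g g.2 x (mem_subgroupOf.1 hx))⟩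
    haveI hC' : (C.subgroupOf T).Normal :=
      ⟨fun x hx g => mem_subgroupOf.2 (hCn g g.2 x (mem_subgroupOf.1 hx))⟩
    let Cb := (C.subgroupOf T).map (QuotientGroup.mk' (R.subgroupOf T))
    haveI : Cb.Normal := hC'.map _ (QuotientGroup.mk'_surjective _)
    have hCb : Nontrivial Cb := by
      refine (nontrivial_iff_ne_bot _).2 fun h => hs₀R ?_
      have hm : QuotientGroup.mk' (R.subgroupOf T) ⟨s₀, hST hs₀S⟩ ∈ Cb :=
        mem_map_of_mem _ (mem_subgroupOf.2 ⟨hs₀S, mem_centralizer_iff.2 fun x hx => (hs₀c x hx).symm⟩)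
      rw [h, mem_bot, QuotientGroup.mk'_apply, QuotientGroup.eq_one_iff] at hm
      exact mem_subgroupOf.1 hm
    haveI : Fintype Cb := Fintype.ofFinite _
    -- a fixed point of the conjugation action on `Cb`
    have hq : IsPGroup 2 (T ⧸ R.subgroupOf T) := hT.to_quotient _
    have hdvd : 2 ∣ Nat.card Cb := by
      obtain ⟨e, he⟩ := IsPGroup.iff_card.1 (hq.to_subgroup Cb)
      have : 1 < Nat.card Cb := Finite.one_lt_card_iff_nontrivial.2 hCb
      rw [he] at this ⊢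
      exact dvd_pow_self 2 (by rintro rfl; simp at this)
    let φ : ConjAct (T ⧸ R.subgroupOf T) := 1
    obtain ⟨q, hq1, hqfix⟩ : ∃ q : Cb, q ≠ 1 ∧
        q ∈ MulAction.fixedPoints (ConjAct (T ⧸ R.subgroupOf T)) Cb := by
      obtain ⟨q, hq', hne⟩ := (hq.of_equiv ConjAct.toConjAct).exists_fixed_point_of_prime_dvd_card_of_fixed_point
        (α := Cb) hdvd (a := 1) (fun g => smul_one g)
      exact ⟨q, fun h => hne h.symm, hq'⟩
    obtain ⟨c, hcC, hcq⟩ := mem_map.1 q.2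
    set x : G := (c : G) with hx
    have hxC : x ∈ C := mem_subgroupOf.1 hcC
    have hxR : x ∉ R := fun h => hq1 (Subtype.ext (by
      rw [← hcq, QuotientGroup.mk'_apply, OneMemClass.coe_one, QuotientGroup.eq_one_iff]
      exact mem_subgroupOf.2 h))
    have hcom : ∀ t ∈ T, t * x * t⁻¹ * x⁻¹ ∈ R := by
      intro t ht
      have h1 := congrArg Subtype.val (hqfix (ConjAct.toConjAct (QuotientGroup.mk' _ ⟨t, ht⟩)))
      rw [ConjAct.Subgroup.val_conj_smul, ConjAct.toConjAct_smul, ← hcq, ← map_inv, ← map_mul,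
        ← map_mul] at h1
      have h2 := (QuotientGroup.eq (s := R.subgroupOf T)).1 h1
      have h3 : (x⁻¹ * (t * x * t⁻¹)) ∈ R := by
        have := R.inv_mem (mem_subgroupOf.1 h2)
        simpa [mul_assoc] using this
      have h4 : x * (x⁻¹ * (t * x * t⁻¹)) = (x⁻¹ * (t * x * t⁻¹)) * x :=
        ((mem_centralizer_iff.1 hxC.2) _ h3).symm
      rw [mul_inv_cancel_left] at h4
      rw [h4, mul_inv_cancel_right]; exact h3
    let R' : Subgroup G := Subgroup.closure ((R : Set G) ∪ {x})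
    have hR'gen : ((R : Set G) ∪ {x}) ⊆ R' := Subgroup.subset_closure
    have hR'c : ∀ p ∈ R', ∀ q ∈ R', p * q = q * p := by
      have hgens : ∀ p ∈ (R : Set G) ∪ {x}, ∀ q ∈ (R : Set G) ∪ {x}, p * q = q * p := by
        rintro p (hp | rfl) q (hq | rfl)
        · exact hRc p hp q hq
        · exact mem_centralizer_iff.1 hxC.2 p hp
        · exact (mem_centralizer_iff.1 hxC.2 q hq).symm
        · rfl
      intro p hp q hq
      have h1 : R' ≤ centralizer ((R : Set G) ∪ {x}) := (closure_le _).2 fun p hp =>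
        mem_centralizer_iff.2 fun q hq => hgens q hq p hp
      have h2 : R' ≤ centralizer (R' : Set G) := (closure_le _).2 fun p hp =>
        mem_centralizer_iff.2 fun q hq => ((mem_centralizer_iff.1 (h1 hq)) p hp).symm
      exact mem_centralizer_iff.1 (h2 hq) p hp
    have hR'n : ∀ t ∈ T, ∀ p ∈ R', t * p * t⁻¹ ∈ R' := by
      intro t ht p hp
      have : R' ≤ R'.comap (MulAut.conj t).toMonoidHom := (closure_le _).2 (by
        rintro p (hp | rfl)
        · exact hR'gen (Or.inl (hRn t ht p hp))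
        · have h5 : t * x * t⁻¹ = t * x * t⁻¹ * x⁻¹ * x := by group
          show t * x * t⁻¹ ∈ R'
          rw [h5]
          exact R'.mul_mem (hR'gen (Or.inl (hcom t ht))) (hR'gen (Or.inr rfl)))
      exact this hp
    have hR'S : R' ≤ S := (closure_le _).2 (Set.union_subset hRS (Set.singleton_subset_iff.2 hxC.1))
    have := hRmax R' ⟨hR'S, hR'c, hR'n⟩ (fun p hp => hR'gen (Or.inl hp))
    exact hxR (this (hR'gen (Or.inr rfl)))
  haveI hRcyc : IsCyclic R := isCyclic_of_unique_involution hRp hRc hRuniq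
  obtain ⟨⟨r, hr⟩, hgen⟩ := hRcyc.exists_generator
  have hRz : R = zpowers r := by
    refine le_antisymm (fun x hx => ?_) (by rw [zpowers_le]; exact hr)
    obtain ⟨j, hj⟩ := mem_zpowers_iff.1 (hgen ⟨x, hx⟩)
    exact mem_zpowers_iff.2 ⟨j, congrArg Subtype.val hj⟩
  obtain ⟨n, hn⟩ := IsPGroup.iff_orderOf.1 hRp ⟨r, hr⟩
  rw [Subgroup.orderOf_mk] at hn
  have hrS : r ∈ S := hRS hr
  have hnorm : ∀ t ∈ T, ∃ k : ℤ, t * r * t⁻¹ = r ^ k := fun t ht => by
    obtain ⟨k, hk⟩ := mem_zpowers_iff.1 (hRz ▸ hRn t ht r hr)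
    exact ⟨k, hk.symm⟩
  have hcentR : ∀ s ∈ S, s * r * s⁻¹ = r → s ∈ R := fun s hs h => hself s hs fun x hx => by
    obtain ⟨j, rfl⟩ := mem_zpowers_iff.1 (hRz ▸ hx)
    calc s * r ^ j = s * r ^ j * s⁻¹ * s := by group
      _ = r ^ j * s := by rw [← conj_zpow, h]
  -- an involution outside `R`
  obtain ⟨i, hiS, hi2, hi1, hiR⟩ : ∃ i ∈ S, i * i = 1 ∧ i ≠ 1 ∧ i ∉ R := by
    by_cases haR : a ∈ R
    · exact ⟨b, hbS, hb, hb1, fun hbR => hne (hRuniq a haR b hbR ha hb ha1 hb1)⟩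
    · exact ⟨a, haS, ha, ha1, haR⟩
  have hodd : ∀ s ∈ S, ∀ k : ℤ, s * r * s⁻¹ = r ^ k → n ≠ 0 → Odd k := by
    intro s hs k hk hn0
    by_contra he
    obtain ⟨j, rfl⟩ := Int.not_odd_iff_even.1 he
    have h1 : (s * r * s⁻¹) ^ (2 ^ (n - 1)) = 1 := by
      rw [hk, ← zpow_natCast, ← zpow_mul, ← orderOf_dvd_iff_zpow_eq_one, hn]
      refine ⟨j, ?_⟩
      push_cast
      rw [show (2 : ℤ) ^ n = 2 ^ (n - 1) * 2 by rw [← pow_succ, Nat.sub_add_cancel (by omega)]]
      ring
    rw [conj_pow, conj_eq_one_iff, ← orderOf_dvd_iff_pow_eq_one, hn,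
      Nat.pow_dvd_pow_iff_le_right (by norm_num)] at h1
    omega
  have hn2 : 2 ≤ n := by
    by_contra hlt
    refine hiR (hcentR i hiS ?_)
    obtain ⟨k, hk⟩ := hnorm i (hST hiS)
    interval_cases n
    · rw [pow_zero, orderOf_eq_one_iff] at hn
      simp [hn]
    · rw [hk]
      obtain ⟨j, rfl⟩ := hodd i hiS k hk one_ne_zero
      conv_rhs => rw [← zpow_one r]
      rw [zpow_eq_iff_dvd, hn]
      exact ⟨j, by ring⟩
  set h : ℤ := 2 ^ (n - 1) with hh
  have h2h : (2 : ℤ) ^ n = h * 2 := by rw [hh, ← pow_succ, Nat.sub_add_cancel (by omega)]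
  have hnz : (orderOf r : ℤ) = 2 ^ n := by rw [hn]; push_cast; rfl
  -- no element acts as `1 + h` when `n ≥ 3`
  have hbad : 3 ≤ n → ∀ s ∈ S, s * r * s⁻¹ ≠ r ^ (1 + h) := by
    intro hn3 s hs hk
    set q : ℤ := 2 ^ (n - 2) with hq
    have hq2 : h = q * 2 := by rw [hh, hq, ← pow_succ]; congr 1; omega
    have hqodd : Odd (1 + q) := by
      refine odd_one.add_even ?_
      rw [hq]; exact (even_two : Even (2 : ℤ)).pow_of_ne_zero (by omega)
    have hsR : s ∉ R := fun hsR => by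
      have : s * r * s⁻¹ = r := by rw [hRc s hsR r hr, mul_inv_cancel_right]
      rw [this] at hk
      conv_lhs at hk => rw [← zpow_one r]
      rw [zpow_eq_iff_dvd, hnz] at hk
      have : (2 : ℤ) ^ n ∣ h := by
        have := hk.neg_right; simpa using this
      have := Int.le_of_dvd (by rw [hh]; positivity) this
      rw [h2h] at this
      have : 0 < h := by rw [hh]; positivity
      linarith
    have hs2 : s * s ∈ R := hcentR _ (S.mul_mem hs hs) (by
      calc s * s * r * (s * s)⁻¹ = s * (s * r * s⁻¹) * s⁻¹ := by group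
        _ = r ^ ((1 + h) * (1 + h)) := by rw [hk, conj_zpow' hk]
        _ = r ^ (1 : ℤ) := by
            rw [zpow_eq_iff_dvd, hnz, h2h]
            exact ⟨1 + q, by rw [hq2]; ring⟩
        _ = r := zpow_one r)
    obtain ⟨m, hm⟩ := mem_zpowers_iff.1 (hRz ▸ hs2)
    have hm2 : Even m := by
      have h1 : s * r ^ m * s⁻¹ = r ^ m := by rw [hm]; group
      rw [conj_zpow' hk, zpow_eq_iff_dvd, hnz, h2h, show (1 + h) * m - m = h * m by ring] at h1
      exact even_iff_two_dvd.2 (Int.dvd_of_mul_dvd_mul_left (by rw [hh]; positivity) h1)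
    obtain ⟨l, rfl⟩ := hm2
    obtain ⟨w', hw'⟩ := exists_inverse_odd (n - 1) hqodd
    -- involution in `R s`
    have hsq : ∀ j : ℤ, (r ^ j * s) * (r ^ j * s) = r ^ (j * (2 + h) + (l + l)) := by
      intro j
      calc r ^ j * s * (r ^ j * s) = r ^ j * (s * r ^ j * s⁻¹) * (s * s) := by group
        _ = _ := by rw [conj_zpow' hk, ← hm, ← zpow_add, ← zpow_add]; congr 1; ring
    obtain ⟨j₀, hj₀⟩ : ∃ j₀ : ℤ, (2 : ℤ) ^ n ∣ j₀ * (2 + h) + (l + l) := by
      refine ⟨-l * w', ?_⟩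
      obtain ⟨c, hc⟩ := hw'
      refine ⟨-l * c, ?_⟩
      rw [h2h, hq2]
      have : (1 + q) * w' - 1 = q * 2 * c := by rw [hc, ← hh, hq2]
      linear_combination (-2 * l) * this
    set s' : G := r ^ j₀ * s
    have hs'2 : s' * s' = 1 := by
      rw [hsq, ← orderOf_dvd_iff_zpow_eq_one, hnz]; exact hj₀
    have hs'S : s' ∈ S := S.mul_mem (S.zpow_mem hrS _) hs
    have hs'k : s' * r * s'⁻¹ = r ^ (1 + h) := by
      calc s' * r * s'⁻¹ = r ^ j₀ * (s * r * s⁻¹) * (r ^ j₀)⁻¹ := by simp only [s']; group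
        _ = _ := by rw [hk]; group
    set z : G := r ^ h
    have hz2 : z * z = 1 := by
      rw [← zpow_add, ← orderOf_dvd_iff_zpow_eq_one, hnz, h2h]; exact ⟨1, by ring⟩
    have hz1 : z ≠ 1 := by
      intro h0
      rw [← orderOf_dvd_iff_zpow_eq_one, hnz, h2h] at h0
      have : 0 < h := by rw [hh]; positivity
      have := Int.le_of_dvd this h0
      linarith
    have hs'z : s' * z = z * s' := by
      calc s' * z = s' * r ^ h * s'⁻¹ * s' := by simp only [z]; group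
        _ = z * s' := by
            rw [conj_zpow' hs'k]
            congr 1
            rw [zpow_eq_iff_dvd, hnz, h2h]
            exact ⟨q, by rw [hq2]; ring⟩
    let E : Subgroup G := Subgroup.closure {z, s'}
    have hEmem : ∀ x ∈ E, x = 1 ∨ x = z ∨ x = s' ∨ x = z * s' := by
      intro x hx
      induction hx using Subgroup.closure_induction with
      | mem x hx => rcases hx with rfl | rfl <;> simp
      | one => simp
      | mul p q _ _ hp hq =>
          have h1 : s' * (z * s') = z := by rw [← mul_assoc, hs'z, mul_assoc, hs'2, mul_one]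
          have h2 : z * (z * s') = s' := by rw [← mul_assoc, hz2, one_mul]
          have h3 : z * s' * s' = z := by rw [mul_assoc, hs'2, mul_one]
          have h4 : z * s' * z = s' := by rw [mul_assoc, hs'z, h2]
          have h5 : z * s' * (z * s') = 1 := by rw [mul_assoc, h1, hz2]
          rcases hp with rfl | rfl | rfl | rfl <;> rcases hq with rfl | rfl | rfl | rfl <;>
            simp [hz2, hs'2, hs'z, h1, h2, h3, h4, h5]
      | inv p _ hp =>
          rcases hp with rfl | rfl | rfl | rfl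
          · simp
          · simp [inv_self hz2]
          · simp [inv_self hs'2]
          · right; right; right
            rw [mul_inv_rev, inv_self hz2, inv_self hs'2, hs'z]
    have hE2 : ∀ x ∈ E, x * x = 1 := fun x hx => by
      rcases hEmem x hx with rfl | rfl | rfl | rfl
      · exact one_mul 1
      · exact hz2
      · exact hs'2
      · rw [mul_assoc, ← mul_assoc s', hs'z, mul_assoc, hs'2, mul_one, hz2]
    have hES : E ≤ S := (closure_le _).2 (by
      rintro x (rfl | rfl)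
      exacts [S.zpow_mem hrS _, hs'S])
    have hEinv : ∀ t ∈ T, ∀ x ∈ E, t * x * t⁻¹ ∈ E := by
      intro t ht x hx
      obtain ⟨a', ha'⟩ := hnorm t ht
      obtain ⟨b', hb'⟩ := hnorm t⁻¹ (T.inv_mem ht)
      rw [inv_inv] at hb'
      have hz' : t * z * t⁻¹ = z := by
        refine hRuniq _ (hRn t ht z (R.zpow_mem hr _)) z (R.zpow_mem hr _) ?_ hz2 ?_ hz1
        · rw [conj_mul, hz2, mul_one, mul_inv_cancel]
        · simpa [conj_eq_one_iff] using hz1
      have hts : t * s' * t⁻¹ ∈ E := by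
        set y := t * s' * t⁻¹
        have hy2 : y * y = 1 := by simp only [y]; rw [conj_mul, hs'2, mul_one, mul_inv_cancel]
        have hy : y * r * y⁻¹ = r ^ (1 + h) := conj_same_action hs'k ha' hb'
        have hyR : y * s'⁻¹ ∈ R := hcentR _ (S.mul_mem (hSn t ht s' hs'S) (S.inv_mem hs'S)) (by
          have h1 : s'⁻¹ * r * s' = r ^ (1 + h) := by
            rw [inv_self hs'2]
            nth_rw 2 [← inv_self hs'2]
            exact hs'k
          calc y * s'⁻¹ * r * (y * s'⁻¹)⁻¹ = y * (s'⁻¹ * r * s') * y⁻¹ := by group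
            _ = r ^ ((1 + h) * (1 + h)) := by rw [h1, conj_zpow' hy]
            _ = r ^ (1 : ℤ) := by
                rw [zpow_eq_iff_dvd, hnz, h2h]
                exact ⟨1 + q, by rw [hq2]; ring⟩
            _ = r := zpow_one r)
        obtain ⟨j, hj⟩ := mem_zpowers_iff.1 (hRz ▸ hyR)
        have hyj : y = r ^ j * s' := by rw [hj, inv_mul_cancel_right]
        have h1 : r ^ (j * (2 + h)) = 1 := by
          rw [hyj] at hy2
          rw [← hy2]
          calc r ^ (j * (2 + h)) = r ^ j * (s' * r ^ j * s'⁻¹) * (s' * s') := by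
                rw [conj_zpow' hs'k, hs'2, mul_one, ← zpow_add]; congr 1; ring
            _ = r ^ j * s' * (r ^ j * s') := by group
        rw [← orderOf_dvd_iff_zpow_eq_one, hnz, h2h] at h1
        have hd : h ∣ j := by
          have h3 : h ∣ j * (1 + q) := Int.dvd_of_mul_dvd_mul_left two_ne_zero (by
            rw [mul_comm 2 h]; refine h1.trans (dvd_of_eq ?_); rw [hq2]; ring)
          refine IsCoprime.dvd_of_dvd_mul_right ?_ h3
          rw [hh]; refine IsCoprime.pow_left ?_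
          obtain ⟨w, hw⟩ := hqodd
          exact ⟨-w, 1, by rw [hw]; ring⟩
        obtain ⟨c, rfl⟩ := hd
        rw [hyj, zpow_mul]
        exact E.mul_mem (E.zpow_mem (Subgroup.subset_closure (Or.inl rfl)) _)
          (Subgroup.subset_closure (Or.inr rfl))
      have : E ≤ E.comap (MulAut.conj t).toMonoidHom := (closure_le _).2 (by
        rintro x (rfl | rfl)
        · show t * z * t⁻¹ ∈ E
          rw [hz']; exact Subgroup.subset_closure (Or.inl rfl)
        · exact hts)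
      exact this hx
    have hs'ne : s' ≠ 1 := fun e => by
      apply hsR
      have h1 : s = (r ^ j₀)⁻¹ := eq_inv_of_mul_eq_one_right e
      rw [h1]; exact R.inv_mem (R.zpow_mem hr _)
    have heq := hno E hES hE2 hEinv z (Subgroup.subset_closure (Or.inl rfl)) s'
      (Subgroup.subset_closure (Or.inr rfl)) hz1 hs'ne
    apply hsR
    have h1 : s = (r ^ j₀)⁻¹ * z := by rw [heq]; simp only [s']; group
    rw [h1]
    exact R.mul_mem (R.inv_mem (R.zpow_mem hr _)) (R.zpow_mem hr _)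
  -- elements acting as `1 mod 4` lie in `R`
  have hone : ∀ s ∈ S, ∀ k : ℤ, s * r * s⁻¹ = r ^ k → k % 4 = 1 → s ∈ R := by
    intro s hs k hk hk4
    by_contra hsR
    have hpow : ∀ m : ℕ, s ^ m * r * (s ^ m)⁻¹ = r ^ (k ^ m) := by
      intro m
      induction m with
      | zero => simp
      | succ m ih =>
        calc s ^ (m + 1) * r * (s ^ (m + 1))⁻¹ = s * (s ^ m * r * (s ^ m)⁻¹) * s⁻¹ := by
              rw [pow_succ']; group
          _ = _ := by rw [ih, conj_zpow' hk, pow_succ']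
    -- the first iterated square trivial modulo `2^n`
    have hdvd : ∀ e : ℕ, (2 : ℤ) ^ (e + 2) ∣ k ^ (2 ^ e) - 1 := by
      intro e
      induction e with
      | zero => exact ⟨k / 4, by rw [pow_zero, pow_one]; omega⟩
      | succ e ih =>
        obtain ⟨c, hc⟩ := ih
        have hk' : k ^ 2 ^ e = 1 + 2 ^ (e + 2) * c := by linarith
        refine ⟨c * (1 + 2 ^ (e + 1) * c), ?_⟩
        rw [pow_succ 2 e, pow_mul, hk', pow_succ (2 : ℤ) (e + 2)]
        rw [pow_succ (2 : ℤ) (e + 1)]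
        ring
    have hex : ∃ e, (2 : ℤ) ^ n ∣ k ^ (2 ^ e) - 1 :=
      ⟨n, (pow_dvd_pow 2 (by omega)).trans (hdvd n)⟩
    have hne0 : Nat.find hex ≠ 0 := by
      intro h0
      have := Nat.find_spec hex
      rw [h0, pow_zero, pow_one] at this
      apply hsR (hcentR s hs ?_)
      rw [hk]
      conv_rhs => rw [← zpow_one r]
      rw [zpow_eq_iff_dvd, hnz]; exact this
    obtain ⟨e, he⟩ := Nat.exists_eq_succ_of_ne_zero hne0
    have hspec := Nat.find_spec hex
    rw [he, pow_succ, pow_mul] at hspec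
    have hnot := Nat.find_min hex (show e < Nat.find hex by omega)
    set X : ℤ := k ^ 2 ^ e
    have hn3 : 3 ≤ n := by
      by_contra hlt
      exact hnot ((pow_dvd_pow 2 (by omega)).trans (hdvd e))
    have hX4 : (4 : ℤ) ∣ X - 1 := by
      have := hdvd e
      rw [pow_add] at this
      exact (dvd_mul_left _ _).trans (by simpa using this)
    obtain ⟨c, hc⟩ := hX4
    have hX : X = 1 + 4 * c := by linarith
    have h1 : (2 : ℤ) ^ n ∣ (X - 1) * (X + 1) := by
      rw [show (X - 1) * (X + 1) = X ^ 2 - 1 by ring]; exact hspec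
    rw [h2h, show (X - 1) * (X + 1) = (X - 1) * (1 + 2 * c) * 2 by rw [hX]; ring] at h1
    have h3 : h ∣ X - 1 := by
      refine IsCoprime.dvd_of_dvd_mul_right ?_ (Int.dvd_of_mul_dvd_mul_right two_ne_zero h1)
      rw [hh]; refine IsCoprime.pow_left ?_
      exact ⟨-c, 1, by ring⟩
    obtain ⟨d, hd⟩ := h3
    have hdodd : Odd d := by
      by_contra hd'
      obtain ⟨d', rfl⟩ := Int.not_odd_iff_even.1 hd'
      exact hnot ⟨d', by rw [hd, h2h]; ring⟩
    obtain ⟨d', rfl⟩ := hdodd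
    refine hbad hn3 (s ^ 2 ^ e) (S.pow_mem hs _) ?_
    rw [hpow, zpow_eq_iff_dvd, hnz]
    exact ⟨d', by rw [h2h]; linear_combination hd⟩
  obtain ⟨k, hk⟩ := hnorm i (hST hiS)
  have hk3 : k % 4 = 3 := by
    have ho := hodd i hiS k hk (by omega)
    rw [Int.odd_iff] at ho
    by_contra hne3
    exact hiR (hone i hiS k hk (by omega))
  obtain ⟨δ, hδ⟩ : h ∣ k + 1 := by
    have h1 : r ^ (k * k) = r ^ (1 : ℤ) := by
      have := conj_zpow' hk k
      rw [← hk] at this
      rw [← this, zpow_one]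
      calc i * (i * r * i⁻¹) * i⁻¹ = (i * i) * r * (i * i)⁻¹ := by group
        _ = r := by rw [hi2]; group
    rw [zpow_eq_iff_dvd, hnz, h2h] at h1
    obtain ⟨c, hc⟩ : ∃ c, k = 4 * c + 3 := ⟨k / 4, by omega⟩
    rw [show k * k - 1 = (k + 1) * (2 * c + 1) * 2 by rw [hc]; ring] at h1
    refine IsCoprime.dvd_of_dvd_mul_right ?_ (Int.dvd_of_mul_dvd_mul_right two_ne_zero h1)
    rw [hh]; refine IsCoprime.pow_left ?_
    exact ⟨-c, 1, by ring⟩
  refine ⟨r, n, hn2, hn, hrS, hnorm, i, hiS, hRz ▸ hiR, hi2, fun s hs => ?_, k, δ, hk, hδ, hk3⟩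
  rw [← hRz]
  by_contra hboth
  rw [not_or] at hboth
  obtain ⟨l, hl⟩ := hnorm s (hST hs)
  have hl3 : l % 4 = 3 := by
    have ho := hodd s hs l hl (by omega)
    rw [Int.odd_iff] at ho
    by_contra hne3
    exact hboth.1 (hone s hs l hl (by omega))
  refine hboth.2 (hone (i * s) (S.mul_mem hiS hs) (k * l) ?_ ?_)
  · calc i * s * r * (i * s)⁻¹ = i * (s * r * s⁻¹) * i⁻¹ := by group
      _ = _ := by rw [hl, conj_zpow' hk]
  · rw [Int.mul_emod, hk3, hl3]; norm_num

end CfsgLib.RankOneSemisimple
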