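import Cfsg.Agent.RankOneSemisimple.Core

/-!
A perfect normal subgroup `A` acted on by a four-group `U`, such that no nontrivial element of `U`
centralizes a four-subgroup of `A`, has no four-subgroup.
-/

set_option autoImplicit false

namespace CfsgLib.RankOneSemisimple

open Subgroup

variable {G : Type*} [Group G] [Finite G]

theorem commute_of_zpow {g x : G} (h : g * x = x * g) (j : ℤ) : g * x ^ j = x ^ j * g :=
  (Commute.zpow_right (show Commute g x from h) j).eq

/-- The main statement, for a normal perfect subgroup. -/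
theorem eq_of_perfect_normal (A : Subgroup G) [A.Normal] (hA : ⁅A, A⁆ = A) (U : Subgroup G)
    {u v : G} (hu : u ∈ U) (hv : v ∈ U) (hu1 : u ≠ 1) (hv1 : v ≠ 1) (huv : u ≠ v)
    (hu2 : u * u = 1) (hv2 : v * v = 1) (hc : u * v = v * u) (hU : IsPGroup 2 U)
    (hfix : FixRankOne A U) {a₀ b₀ : G} (ha₀ : a₀ ∈ A) (hb₀ : b₀ ∈ A) (ha : a₀ * a₀ = 1)
    (hb : b₀ * b₀ = 1) (hab : a₀ * b₀ = b₀ * a₀) (ha1 : a₀ ≠ 1) (hb1 : b₀ ≠ 1) : a₀ = b₀ := by
  classical
  haveI : Fact (Nat.Prime 2) := ⟨Nat.prime_two⟩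
  by_contra hne
  obtain ⟨T, hUT⟩ := hU.exists_le_sylow
  set S : Subgroup G := (T : Subgroup G) ⊓ A with hS
  have hST : S ≤ T := inf_le_left
  have hSA : S ≤ A := inf_le_right
  have hSp : IsPGroup 2 S := T.2.to_le hST
  have hSn : ∀ t ∈ (T : Subgroup G), ∀ s ∈ S, t * s * t⁻¹ ∈ S := fun t ht s hs =>
    ⟨(T : Subgroup G).mul_mem ((T : Subgroup G).mul_mem ht hs.1) ((T : Subgroup G).inv_mem ht),
      (inferInstance : A.Normal).conj_mem s hs.2 t⟩
  have hSodd : ¬ 2 ∣ S.relIndex A := by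
    rw [hS, Subgroup.inf_relIndex_right]
    intro hd
    have hTA := Subgroup.relIndex_mul_relIndex ((T : Subgroup G) ⊓ A) A ((T : Subgroup G) ⊔ A) inf_le_right le_sup_right
    have hTA' := Subgroup.relIndex_mul_relIndex ((T : Subgroup G) ⊓ A) T ((T : Subgroup G) ⊔ A) inf_le_left le_sup_left
    rw [Subgroup.inf_relIndex_right] at hTA
    rw [Subgroup.inf_relIndex_left, ← Subgroup.relIndex_sup_right (T : Subgroup G) A] at hTA'
    have heq : (T : Subgroup G).relIndex A = (T : Subgroup G).relIndex ((T : Subgroup G) ⊔ A) :=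
      Nat.eq_of_mul_eq_mul_right (Nat.pos_of_ne_zero Subgroup.index_ne_zero_of_finite)
        (hTA.trans (hTA'.symm.trans (mul_comm _ _)))
    exact T.not_dvd_index (hd.trans (heq ▸ Subgroup.relIndex_dvd_index_of_le le_sup_left))
  -- move the four-group into `S`
  obtain ⟨a, haS, b, hbS, ha2, hb2, hab', ha1', hb1', hne'⟩ : ∃ a ∈ S, ∃ b ∈ S,
      a * a = 1 ∧ b * b = 1 ∧ a * b = b * a ∧ a ≠ 1 ∧ b ≠ 1 ∧ a ≠ b := by
    let P : Subgroup G := Subgroup.closure {a₀, b₀}
    have hP : IsPGroup 2 P := by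
      rintro ⟨x, hx⟩
      refine ⟨1, Subtype.ext ?_⟩
      show x ^ 2 ^ 1 = 1
      rw [pow_one]
      have hcm : ∀ y ∈ P, y * a₀ = a₀ * y ∧ y * b₀ = b₀ * y := by
        intro y hy
        induction hy using Subgroup.closure_induction with
        | mem y hy => rcases hy with rfl | rfl <;> simp [hab]
        | one => simp
        | mul p q _ _ hp hq =>
            constructor
            · rw [mul_assoc, hq.1, ← mul_assoc, hp.1, mul_assoc]
            · rw [mul_assoc, hq.2, ← mul_assoc, hp.2, mul_assoc]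
        | inv p _ hp => exact ⟨(Commute.inv_left hp.1).eq, (Commute.inv_left hp.2).eq⟩
      induction hx using Subgroup.closure_induction with
      | mem y hy => rcases hy with rfl | rfl <;> simp [pow_two, ha, hb]
      | one => simp
      | mul p q hp hq ihp ihq =>
          have hPc : ∀ y ∈ P, Commute p y := fun y hy => by
            induction hy using Subgroup.closure_induction with
            | mem y hy => rcases hy with rfl | rfl; exacts [(hcm p hp).1, (hcm p hp).2]
            | one => exact Commute.one_right p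
            | mul _ _ _ _ h1 h2 => exact h1.mul_right h2
            | inv _ _ h1 => exact h1.inv_right
          have hpq : Commute p q := hPc q hq
          rw [hpq.mul_pow, ihp, ihq, one_mul]
      | inv p _ ihp => rw [inv_pow, ihp, inv_one]
    obtain ⟨c, -, hcc⟩ := exists_conj_mem_of_relIndex_odd hSA hSp hSodd
      ((closure_le _).2 (by rintro x (rfl | rfl) <;> assumption) : P ≤ A) hP
    refine ⟨c * a₀ * c⁻¹, hcc a₀ (Subgroup.subset_closure (Or.inl rfl)), c * b₀ * c⁻¹,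
      hcc b₀ (Subgroup.subset_closure (Or.inr rfl)), ?_, ?_, ?_, ?_, ?_, ?_⟩
    · rw [conj_mul, ha, mul_one, mul_inv_cancel]
    · rw [conj_mul, hb, mul_one, mul_inv_cancel]
    · rw [conj_mul, conj_mul, hab]
    · simpa using ha1
    · simpa using hb1
    · simpa using hne
  have hno : ∀ E : Subgroup G, E ≤ S → (∀ x ∈ E, x * x = 1) →
      (∀ t ∈ (T : Subgroup G), ∀ x ∈ E, t * x * t⁻¹ ∈ E) →
      ∀ x ∈ E, ∀ y ∈ E, x ≠ 1 → y ≠ 1 → x = y := fun E hES h2 hE x hx y hy hx1 hy1 =>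
    eq_or_of_invariant hfix hu hv hu1 hv1 huv hu2 hv2 hc (hES.trans hSA) h2
      (fun z hz => by have := hE u (hUT hu) z hz; rwa [inv_self hu2] at this)
      (fun z hz => by have := hE v (hUT hv) z hz; rwa [inv_self hv2] at this) hx hy hx1 hy1
  obtain ⟨r, n, hn2, hn, hrS, hnorm, i, hiS, hiR, hi2, hcover, k, δ, hk, hkδ, hk4⟩ :=
    structure_of_no_invariant_four T S T.2 hST hSn hno haS hbS ha2 hb2 hab' ha1' hb1' hne'
  set h : ℤ := 2 ^ (n - 1) with hh
  set q : ℤ := 2 ^ (n - 2) with hq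
  have h2h : (2 : ℤ) ^ n = h * 2 := by rw [hh, ← pow_succ, Nat.sub_add_cancel (by omega)]
  have hq2 : h = q * 2 := by rw [hh, hq, ← pow_succ]; congr 1; omega
  have hh0 : 0 < h := by rw [hh]; positivity
  have hnz : (orderOf r : ℤ) = 2 ^ n := by rw [hn]; push_cast; rfl
  set z : G := r ^ h with hz
  have hzS : z ∈ S := S.zpow_mem hrS _
  have hz2 : z * z = 1 := by
    rw [hz, ← zpow_add, ← orderOf_dvd_iff_zpow_eq_one, hnz, h2h]; exact ⟨1, by ring⟩
  have hz1 : z ≠ 1 := by
    intro h0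
    rw [hz, ← orderOf_dvd_iff_zpow_eq_one, hnz, h2h] at h0
    have := Int.le_of_dvd hh0 h0
    linarith
  have hi1 : i ≠ 1 := fun e => hiR (e ▸ one_mem _)
  obtain ⟨w₀, hw₀⟩ : ∃ w₀, k = 4 * w₀ + 3 := ⟨k / 4, by omega⟩
  -- `z` is the only involution in `⟨r⟩`
  have hinvR : ∀ x ∈ zpowers r, x * x = 1 → x ≠ 1 → x = z := by
    intro x hx hx2 hx1
    obtain ⟨j, rfl⟩ := mem_zpowers_iff.1 hx
    rw [← zpow_add, ← orderOf_dvd_iff_zpow_eq_one, hnz, h2h] at hx2
    obtain ⟨c, hc'⟩ := hx2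
    have hj : j = h * c := by linarith
    rcases Int.even_or_odd c with ⟨d, rfl⟩ | ⟨d, rfl⟩
    · refine absurd ?_ hx1
      rw [← orderOf_dvd_iff_zpow_eq_one, hnz, h2h]; exact ⟨d, by rw [hj]; ring⟩
    · rw [hz, zpow_eq_iff_dvd, hnz, h2h]; exact ⟨d, by rw [hj]; ring⟩
  have hik : ∀ x : ℤ, i * r ^ x * i⁻¹ = r ^ (k * x) := conj_zpow' hk
  have hzi : z * i = i * z := by
    have : i * z * i⁻¹ = z := by
      refine hinvR _ ?_ ?_ ?_
      · rw [hz, hik]; exact ⟨_, rfl⟩
      · rw [conj_mul, hz2, mul_one, mul_inv_cancel]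
      · simpa using hz1
    calc z * i = i * z * i⁻¹ * i := by rw [this]
      _ = i * z := by group
  -- `z` is central in the Sylow subgroup
  have hzT : ∀ t ∈ (T : Subgroup G), t * z = z * t := by
    intro t ht
    obtain ⟨l, hl⟩ := hnorm t ht
    have : t * z * t⁻¹ = z := by
      refine hinvR _ ?_ ?_ ?_
      · rw [hz, conj_zpow' hl]; exact ⟨_, rfl⟩
      · rw [conj_mul, hz2, mul_one, mul_inv_cancel]
      · simpa using hz1
    calc t * z = t * z * t⁻¹ * t := by group
      _ = z * t := by rw [this]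
  -- involutions of the coset
  have hcos : ∀ j : ℤ, r ^ j * i * (r ^ j * i) = r ^ ((k + 1) * j) := fun j => by
    calc r ^ j * i * (r ^ j * i) = r ^ j * (i * r ^ j * i⁻¹) * (i * i) := by group
      _ = _ := by rw [hik, hi2, mul_one, ← zpow_add]; congr 1; ring
  have hcover' : ∀ s ∈ S, s ∉ zpowers r → ∃ j : ℤ, s = r ^ j * i := by
    intro s hs hsR
    obtain ⟨l, hl⟩ := mem_zpowers_iff.1 ((hcover s hs).resolve_left hsR)
    refine ⟨k * l, ?_⟩
    calc s = i⁻¹ * (i * s) := by group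
      _ = i * r ^ l := by rw [inv_self hi2, hl]
      _ = i * r ^ l * i⁻¹ * i := by group
      _ = r ^ (k * l) * i := by rw [hik]
  -- centralisers of noncentral involutions
  have hcent : ∀ x ∈ S, x ∉ zpowers r → x * x = 1 → ∀ s ∈ S, s * x = x * s →
      s = 1 ∨ s = z ∨ s = x ∨ s = z * x := by
    have hR : ∀ j l : ℤ, r ^ l * (r ^ j * i) = r ^ j * i * r ^ l → r ^ l = 1 ∨ r ^ l = z := by
      intro j l e
      have e1 : r ^ (l + j) = r ^ (j + k * l) := by
        refine mul_right_cancel (b := i) ?_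
        calc r ^ (l + j) * i = r ^ l * (r ^ j * i) := by rw [zpow_add, mul_assoc]
          _ = r ^ j * (i * r ^ l * i⁻¹) * i := by rw [e]; group
          _ = r ^ (j + k * l) * i := by rw [hik, zpow_add]
      rw [zpow_eq_iff_dvd, hnz, h2h] at e1
      by_cases h1 : r ^ l = 1
      · exact Or.inl h1
      refine Or.inr (hinvR _ ⟨_, rfl⟩ ?_ h1)
      rw [← zpow_add, ← orderOf_dvd_iff_zpow_eq_one, hnz, h2h]
      refine IsCoprime.dvd_of_dvd_mul_right (z := -(2 * w₀ + 1)) ?_ (e1.trans (dvd_of_eq ?_))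
      · rw [← h2h]; refine IsCoprime.pow_left ?_
        exact ⟨w₀ + 1, 1, by ring⟩
      · rw [hw₀]; ring
    intro x hx hxR hx2 s hs hsx
    obtain ⟨j, rfl⟩ := hcover' x hx hxR
    by_cases hsR : s ∈ zpowers r
    · obtain ⟨l, rfl⟩ := mem_zpowers_iff.1 hsR
      rcases hR j l hsx with e | e
      · exact Or.inl e
      · exact Or.inr (Or.inl e)
    · obtain ⟨l, rfl⟩ := hcover' s hs hsR
      have e1 : r ^ (l - j) * (r ^ j * i) = r ^ j * i * r ^ (l - j) := by
        have e2 : r ^ l * i = r ^ (l - j) * (r ^ j * i) := by rw [← mul_assoc, ← zpow_add, sub_add_cancel]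
        rw [e2] at hsx
        refine mul_right_cancel (b := r ^ j * i) ?_
        rw [hsx, ← mul_assoc]
      have e2 : r ^ l * i = r ^ (l - j) * (r ^ j * i) := by rw [← mul_assoc, ← zpow_add, sub_add_cancel]
      rcases hR j (l - j) e1 with e | e
      · exact Or.inr (Or.inr (Or.inl (by rw [e2, e, one_mul])))
      · exact Or.inr (Or.inr (Or.inr (by rw [e2, e])))
  -- the step function of `U` on the coset
  obtain ⟨e₀, he₀, he₀inv, he₀mem⟩ : ∃ e₀ : ℤ, (e₀ = 1 ∨ e₀ = 2) ∧
      (∀ j, e₀ ∣ j → r ^ ((k + 1) * j) = 1) ∧ ∀ j, r ^ ((k + 1) * j) = 1 → e₀ ∣ j := by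
    rcases Int.even_or_odd δ with ⟨d, rfl⟩ | ⟨d, rfl⟩
    · refine ⟨1, Or.inl rfl, fun j _ => ?_, fun j _ => one_dvd j⟩
      rw [← orderOf_dvd_iff_zpow_eq_one, hnz, h2h, hkδ]; exact ⟨d * j, by ring⟩
    · refine ⟨2, Or.inr rfl, fun j ⟨j', hj'⟩ => ?_, fun j hj => ?_⟩
      · rw [← orderOf_dvd_iff_zpow_eq_one, hnz, h2h, hkδ, hj']; exact ⟨(2 * d + 1) * j', by ring⟩
      · rw [← orderOf_dvd_iff_zpow_eq_one, hnz, h2h, hkδ, mul_assoc] at hj
        have := Int.dvd_of_mul_dvd_mul_left hh0.ne' hj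
        exact IsCoprime.dvd_of_dvd_mul_left ⟨-d, 1, by ring⟩ this
  have hact : ∀ w ∈ U, ∃ c a : ℤ, w * i * w⁻¹ = r ^ c * i ∧ w * r * w⁻¹ = r ^ a ∧
      e₀ ∣ c ∧ Odd a := by
    intro w hw
    obtain ⟨a, ha'⟩ := hnorm w (hUT hw)
    obtain ⟨a', ha''⟩ := hnorm w⁻¹ ((T : Subgroup G).inv_mem (hUT hw))
    have hwiS := hSn w (hUT hw) i hiS
    have hwiR : w * i * w⁻¹ ∉ zpowers r := fun hin => by
      obtain ⟨l, hl⟩ := mem_zpowers_iff.1 hin
      refine hiR ?_
      have : i = w⁻¹ * r ^ l * w⁻¹⁻¹ := by rw [hl]; group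
      rw [this, conj_zpow' ha'']
      exact ⟨_, rfl⟩
    obtain ⟨c, hc'⟩ := hcover' _ hwiS hwiR
    refine ⟨c, a, hc', ha', he₀mem c ?_, ?_⟩
    · rw [← hcos, ← hc', conj_mul, hi2, mul_one, mul_inv_cancel]
    · by_contra hev
      obtain ⟨m, rfl⟩ := Int.not_odd_iff_even.1 hev
      have h1 : (w * r * w⁻¹) ^ h = 1 := by
        rw [ha', ← zpow_mul, ← orderOf_dvd_iff_zpow_eq_one, hnz, h2h]; exact ⟨m, by ring⟩
      rw [conj_zpow, conj_eq_one_iff] at h1
      exact hz1 h1
  obtain ⟨w, hwU, hw1, hw2, c, a, hwi, hwr, hce, hao⟩ : ∃ w ∈ U, w ≠ 1 ∧ w * w = 1 ∧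
      ∃ c a : ℤ, w * i * w⁻¹ = r ^ c * i ∧ w * r * w⁻¹ = r ^ a ∧ 2 * e₀ ∣ c ∧ Odd a := by
    obtain ⟨c₁, a₁, h1, h1', h1e, h1o⟩ := hact u hu
    obtain ⟨c₂, a₂, h2, h2', h2e, h2o⟩ := hact v hv
    by_cases g1 : 2 * e₀ ∣ c₁
    · exact ⟨u, hu, hu1, hu2, c₁, a₁, h1, h1', g1, h1o⟩
    by_cases g2 : 2 * e₀ ∣ c₂
    · exact ⟨v, hv, hv1, hv2, c₂, a₂, h2, h2', g2, h2o⟩
    refine ⟨u * v, U.mul_mem hu hv, fun e => huv ?_, ?_, a₁ * c₂ + c₁, a₁ * a₂, ?_, ?_, ?_, h1o.mul h2o⟩
    · calc u = u * (v * v) := by rw [hv2, mul_one]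
        _ = v := by rw [← mul_assoc, e, one_mul]
    · calc u * v * (u * v) = u * (v * u) * v := by group
        _ = (u * u) * (v * v) := by rw [← hc]; group
        _ = 1 := by rw [hu2, hv2, one_mul]
    · calc u * v * i * (u * v)⁻¹ = u * (v * i * v⁻¹) * u⁻¹ := by group
        _ = u * r ^ c₂ * u⁻¹ * (u * i * u⁻¹) := by rw [h2]; group
        _ = _ := by rw [conj_zpow' h1', h1, ← mul_assoc, ← zpow_add]
    · calc u * v * r * (u * v)⁻¹ = u * (v * r * v⁻¹) * u⁻¹ := by group
        _ = _ := by rw [h2', conj_zpow' h1']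
    · obtain ⟨x₁, rfl⟩ := h1e
      obtain ⟨x₂, rfl⟩ := h2e
      have o1 : Odd x₁ := by
        by_contra hh'; obtain ⟨y, rfl⟩ := Int.not_odd_iff_even.1 hh'; exact g1 ⟨y, by ring⟩
      have o2 : Odd x₂ := by
        by_contra hh'; obtain ⟨y, rfl⟩ := Int.not_odd_iff_even.1 hh'; exact g2 ⟨y, by ring⟩
      obtain ⟨y, hy⟩ := (h1o.mul o2).add_odd o1
      exact ⟨y, by linear_combination e₀ * hy⟩
  have hwT : w ∈ (T : Subgroup G) := hUT hwU
  have hwinv : w⁻¹ = w := inv_self hw2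
  have hnofix : ∀ j : ℤ, e₀ ∣ j → w * (r ^ j * i) = r ^ j * i * w → False := by
    intro j hj hcm
    set x := r ^ j * i
    have hxS : x ∈ S := S.mul_mem (S.zpow_mem hrS _) hiS
    have hxR : x ∉ zpowers r := fun hin => hiR (by
      have := (zpowers r).mul_mem ((zpowers r).inv_mem (⟨j, rfl⟩ : r ^ j ∈ zpowers r)) hin
      simpa [x] using this)
    have hx2 : x * x = 1 := by rw [hcos]; exact he₀inv j hj
    have hzx : z * x = x * z := (hzT x (hST hxS)).symm
    rcases hfix w hwU hw1 z (hSA hzS) x (hSA hxS) hz2 hx2 hzx (hzT w hwT) hcm with e | e | e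
    · exact hz1 e
    · exact hxR (e ▸ one_mem _)
    · exact hxR (e ▸ ⟨h, rfl⟩)
  have hwfix : ∀ j : ℤ, w * (r ^ j * i) * w⁻¹ = r ^ (a * j + c) * i := fun j => by
    calc w * (r ^ j * i) * w⁻¹ = w * r ^ j * w⁻¹ * (w * i * w⁻¹) := by group
      _ = _ := by rw [conj_zpow' hwr, hwi, ← mul_assoc, ← zpow_add]
  have ha4 : a % 4 = 1 := by
    by_contra hne4
    have ha3 : a % 4 = 3 := by rw [Int.odd_iff] at hao; omega
    obtain ⟨w₁, hw₁⟩ : ∃ w₁, a - 1 = 2 * w₁ ∧ Odd w₁ :=
      ⟨(a - 1) / 2, by omega, by rw [Int.odd_iff]; omega⟩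
    obtain ⟨w', hw'⟩ := exists_inverse_odd n hw₁.2
    obtain ⟨d, hd⟩ := hce
    set j : ℤ := -(e₀ * d) * w'
    refine hnofix j ⟨-d * w', by simp only [j]; ring⟩ ?_
    have e : r ^ (a * j + c) = r ^ j := by
      rw [zpow_eq_iff_dvd, hnz]
      obtain ⟨m, hm⟩ := hw'
      refine ⟨-(2 * e₀ * d) * m, ?_⟩
      have hw1' := hw₁.1
      rw [hd]
      simp only [j]
      linear_combination (-(e₀ * d) * w') * hw1' + (-(2 * e₀ * d)) * hm
    calc w * (r ^ j * i) = w * (r ^ j * i) * w⁻¹ * w := by group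
      _ = r ^ j * i * w := by rw [hwfix, e]
  have hcz : r ^ c = z := by
    have hww : r ^ (a * c + c) = r ^ (0 : ℤ) := by
      refine mul_right_cancel (b := i) ?_
      calc r ^ (a * c + c) * i = w * (r ^ c * i) * w⁻¹ := (hwfix c).symm
        _ = (w * w) * i * (w * w)⁻¹ := by rw [← hwi]; group
        _ = r ^ (0 : ℤ) * i := by rw [hw2]; group
    rw [zpow_eq_iff_dvd, hnz, sub_zero] at hww
    obtain ⟨a', ha'⟩ : ∃ a', a = 4 * a' + 1 := ⟨a / 4, by omega⟩
    refine hinvR _ ⟨c, rfl⟩ ?_ ?_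
    · rw [← zpow_add, ← orderOf_dvd_iff_zpow_eq_one, hnz]
      refine IsCoprime.dvd_of_dvd_mul_right (z := 2 * a' + 1) ?_ (hww.trans (dvd_of_eq ?_))
      · refine IsCoprime.pow_left ?_; exact ⟨-a', 1, by ring⟩
      · rw [ha']; ring
    · intro e
      refine hnofix 0 (dvd_zero _) ?_
      rw [zpow_zero, one_mul]
      calc w * i = w * i * w⁻¹ * w := by group
        _ = i * w := by rw [hwi, e, one_mul]
  have hwA : w ∉ A := by
    intro hwA
    rcases hfix w hwU hw1 w hwA z (hSA hzS) hw2 hz2 (hzT w hwT) rfl (hzT w hwT) with e | e | e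
    · exact hw1 e
    · exact hz1 e
    · have hwi2 : w * i * w⁻¹ = i := by rw [e, hzi, mul_inv_cancel_right]
      rw [hwi2, hcz] at hwi
      exact hz1 (right_eq_mul.1 hwi)
  -- the element of order four centralizing `⟨z, i⟩`
  set e := r ^ q * w with hedef
  have hei : e * i = i * e := by
    have e1 : w * i = z * i * w := by
      calc w * i = w * i * w⁻¹ * w := by group
        _ = z * i * w := by rw [hwi, hcz]
    have e2 : i * r ^ q = r ^ (k * q) * i := by
      calc i * r ^ q = i * r ^ q * i⁻¹ * i := by group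
        _ = _ := by rw [hik]
    calc e * i = r ^ q * (w * i) := by rw [hedef, mul_assoc]
      _ = r ^ (q + h) * i * w := by rw [e1, hz, zpow_add]; group
      _ = r ^ (k * q) * i * w := by
          congr 2
          rw [zpow_eq_iff_dvd, hnz, h2h, hq2, hw₀]
          exact ⟨-w₀, by ring⟩
      _ = i * e := by rw [← e2, hedef, mul_assoc]
  have hee : e * e = z := by
    obtain ⟨a', ha'⟩ : ∃ a', a = 4 * a' + 1 := ⟨a / 4, by omega⟩
    calc e * e = r ^ q * (w * r ^ q * w⁻¹) * (w * w) := by rw [hedef]; group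
      _ = r ^ (q + a * q) := by rw [conj_zpow' hwr, hw2, mul_one, zpow_add]
      _ = z := by
          rw [hz, zpow_eq_iff_dvd, hnz, h2h, hq2, ha']
          exact ⟨a', by ring⟩
  have heT : e ∈ (T : Subgroup G) := (T : Subgroup G).mul_mem (hST (S.zpow_mem hrS _)) hwT
  have hez : e * z = z * e := hzT e heT
  have heA : e ∉ A := fun he => hwA (by
    have := A.mul_mem (A.inv_mem (hSA (S.zpow_mem hrS q))) he
    simpa [hedef] using this)
  have hweA : w * e⁻¹ ∈ A := by
    have : w * e⁻¹ = (r ^ q)⁻¹ := by rw [hedef]; group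
    rw [this]; exact A.inv_mem (hSA (S.zpow_mem hrS q))
  -- fusion of `z` with a noncentral involution
  have hfuse : ∀ x ∈ S, x ∉ zpowers r → x * x = 1 → ∃ g ∈ A, g * x * g⁻¹ = z := by
    intro x hx hxR hx2
    let SA : Sylow 2 A :=
      (hSp.of_equiv (Subgroup.subgroupOfEquivOfLe hSA).symm).toSylow (p := 2) hSodd
    have hRA : zpowers r ≤ A := by rw [zpowers_le]; exact hSA hrS
    let Q : Subgroup A := (zpowers r).subgroupOf A
    have hQS : Q ≤ (SA : Subgroup A) := fun y hy => mem_subgroupOf.2 (by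
      obtain ⟨l, hl⟩ := mem_zpowers_iff.1 (mem_subgroupOf.1 hy)
      rw [← hl]; exact S.zpow_mem hrS l)
    have hQi : Q.relIndex (SA : Subgroup A) = 2 := by
      show ((zpowers r).subgroupOf A).relIndex (S.subgroupOf A) = 2
      rw [Subgroup.relIndex_subgroupOf hSA, Subgroup.relIndex, Subgroup.index_eq_two_iff]
      refine ⟨⟨i, hiS⟩, fun y => ?_⟩
      simp only [mem_subgroupOf, Subgroup.coe_mul]
      rcases hcover y y.2 with hy | hy
      · refine Or.inr ⟨hy, fun hin => hiR ?_⟩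
        have := (zpowers r).mul_mem ((zpowers r).inv_mem hy) hin
        simpa using this
      · have hyi : (y : G) * i ∈ zpowers r := by
          obtain ⟨l, hl⟩ := mem_zpowers_iff.1 hy
          have : (y : G) * i = i * r ^ l * i⁻¹ := by
            rw [hl]
            calc (y : G) * i = (i * i) * y * i := by rw [hi2, one_mul]
              _ = i * (i * y) * i⁻¹ := by rw [inv_self hi2]; group
          rw [this, hik]; exact ⟨_, rfl⟩
        refine Or.inl ⟨hyi, fun hin => hiR ?_⟩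
        have := (zpowers r).mul_mem hy ((zpowers r).inv_mem hin)
        simpa using this
    have hxo : orderOf (⟨x, hSA hx⟩ : A) = 2 := by
      rw [Subgroup.orderOf_mk]
      exact orderOf_eq_prime (by rw [pow_two]; exact hx2) (fun e => hxR (e ▸ one_mem _))
    rcases CfsgLib.Transfer.thompsonTransferLemma SA Q hQS hQi ⟨x, hSA hx⟩ hxo
      (mem_subgroupOf.2 hx) (fun hin => hxR (mem_subgroupOf.1 hin)) with ⟨M, hM, hMi, -⟩ | ⟨g, hg⟩
    · exfalso
      haveI := hM
      have hperf : commutator A = ⊤ := by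
        rw [_root_.commutator_def]
        refine Subgroup.map_injective A.subtype_injective ?_
        rw [Subgroup.map_commutator, ← MonoidHom.range_eq_map, Subgroup.range_subtype, hA]
      have hle : commutator A ≤ M := by
        rw [_root_.commutator_def, Subgroup.commutator_le]
        intro p _ q _
        have h2 := fun {a b : A} => Subgroup.mul_mem_iff_of_index_two hMi (a := a) (b := b)
        rw [commutatorElement_def]
        simp only [h2, inv_mem_iff]
        tauto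
      rw [hperf, top_le_iff] at hle
      rw [hle, Subgroup.index_top] at hMi
      norm_num at hMi
    · refine ⟨g, g.2, hinvR _ (mem_subgroupOf.1 hg) ?_ ?_⟩
      · rw [conj_mul, hx2, mul_one, mul_inv_cancel]
      · intro e; exact hxR (by rw [conj_eq_one_iff.1 e]; exact one_mem _)
  -- an element of `A` normalizing `⟨z, i⟩` and moving `z`
  obtain ⟨y, hyA, hyi, hyz⟩ : ∃ y ∈ A, y * i * y⁻¹ = i ∧ y * z * y⁻¹ = z * i := by
    obtain ⟨g, hgA, hg⟩ := hfuse i hiS hiR hi2
    have hgz : g * z * g⁻¹ ∈ A ⊓ centralizer ({z} : Set G) := by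
      refine ⟨A.mul_mem (A.mul_mem hgA (hSA hzS)) (A.inv_mem hgA), mem_centralizer_singleton_iff.2 ?_⟩
      have h0 : (g * z * g⁻¹) * (g * i * g⁻¹) = (g * i * g⁻¹) * (g * z * g⁻¹) := by
        rw [conj_mul, conj_mul, hzi]
      rwa [hg] at h0
    have hSC : S ≤ A ⊓ centralizer ({z} : Set G) :=
      le_inf hSA fun s hs => mem_centralizer_singleton_iff.2 (hzT s (hST hs))
    have hCodd : ¬ 2 ∣ S.relIndex (A ⊓ centralizer ({z} : Set G)) := fun hd => hSodd
      (hd.trans (Dvd.intro _ (Subgroup.relIndex_mul_relIndex _ _ _ hSC inf_le_left)))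
    obtain ⟨m, hm, hmS⟩ := exists_conj_mem_of_relIndex_odd hSC hSp hCodd
      (P := zpowers (g * z * g⁻¹)) (by rwa [zpowers_le])
      (IsPGroup.of_card (n := 1) (by
        rw [Nat.card_zpowers, pow_one]
        refine orderOf_eq_prime (by rw [pow_two, conj_mul, hz2, mul_one, mul_inv_cancel]) ?_
        simpa using hz1))
    have hmz : m * z * m⁻¹ = z := by
      rw [mem_centralizer_singleton_iff.1 hm.2, mul_inv_cancel_right]
    set h' := m * g
    set x := h' * z * h'⁻¹
    have hxS : x ∈ S := by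
      have : x = m * (g * z * g⁻¹) * m⁻¹ := by simp only [x, h']; group
      rw [this]; exact hmS _ (mem_zpowers _)
    have hh'i : h' * i * h'⁻¹ = z := by
      calc h' * i * h'⁻¹ = m * (g * i * g⁻¹) * m⁻¹ := by simp only [h']; group
        _ = z := by rw [hg, hmz]
    have hx2 : x * x = 1 := by simp only [x]; rw [conj_mul, hz2, mul_one, mul_inv_cancel]
    have hxR : x ∉ zpowers r := fun hin => by
      have hx : x = z := hinvR x hin hx2 (by simpa [x] using hz1)
      rw [← hh'i] at hx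
      have : z = i := by simpa [x] using hx
      exact hiR (this ▸ ⟨h, rfl⟩)
    obtain ⟨j, hj⟩ := hcover' x hxS hxR
    refine ⟨h'⁻¹ * r ^ q * h', A.mul_mem (A.mul_mem (A.inv_mem (A.mul_mem hm.1 hgA))
      (hSA (S.zpow_mem hrS q))) (A.mul_mem hm.1 hgA), ?_, ?_⟩
    · have hqz : r ^ q * z * (r ^ q)⁻¹ = z := by
        rw [hzT (r ^ q) (hST (S.zpow_mem hrS q)), mul_inv_cancel_right]
      calc h'⁻¹ * r ^ q * h' * i * (h'⁻¹ * r ^ q * h')⁻¹
          = h'⁻¹ * (r ^ q * (h' * i * h'⁻¹) * (r ^ q)⁻¹) * h' := by group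
        _ = h'⁻¹ * (h' * i * h'⁻¹) * h' := by rw [hh'i, hqz]
        _ = i := by group
    · have hqx : r ^ q * x * (r ^ q)⁻¹ = x * z := by
        have hjq : r ^ (q + j + k * -q) = r ^ (j + k * h) := by
          rw [zpow_eq_iff_dvd, hnz, h2h, hq2, hw₀]
          exact ⟨-3 * w₀ - 2, by ring⟩
        calc r ^ q * x * (r ^ q)⁻¹ = r ^ q * r ^ j * (i * r ^ (-q) * i⁻¹) * i := by rw [hj]; group
          _ = r ^ (q + j + k * -q) * i := by rw [hik, zpow_add, zpow_add]
          _ = r ^ j * (i * r ^ h * i⁻¹) * i := by rw [hjq, hik, zpow_add]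
          _ = x * z := by rw [hj, hz]; group
      calc h'⁻¹ * r ^ q * h' * z * (h'⁻¹ * r ^ q * h')⁻¹
          = h'⁻¹ * (r ^ q * x * (r ^ q)⁻¹) * h' := by simp only [x]; group
        _ = h'⁻¹ * (x * (h' * i * h'⁻¹)) * h' := by rw [hqx, hh'i]
        _ = z * i := by simp only [x]; group
  -- the final contradiction in `A ⟨w⟩ ∩ C(⟨z, i⟩)`
  let X : Subgroup G :=
    { carrier := {x | x ∈ A ∨ x * w ∈ A}
      one_mem' := Or.inl A.one_mem
      mul_mem' := by
        have hn : ∀ p, p ∈ A → w * p * w ∈ A := fun p hp => by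
          have := (inferInstance : A.Normal).conj_mem p hp w; rwa [hwinv] at this
        rintro p q (hp | hp) (hq | hq)
        · exact Or.inl (A.mul_mem hp hq)
        · exact Or.inr (by rw [mul_assoc]; exact A.mul_mem hp hq)
        · refine Or.inr ?_
          have : p * q * w = (p * w) * (w * q * w) := by
            calc p * q * w = p * (w * w) * q * w := by rw [hw2, mul_one]
              _ = _ := by group
          rw [this]; exact A.mul_mem hp (hn q hq)
        · refine Or.inl ?_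
          have : p * q = (p * w) * (w * (q * w) * w) := by
            calc p * q = p * (w * w) * q * (w * w) := by rw [hw2, mul_one, mul_one]
              _ = _ := by group
          rw [this]; exact A.mul_mem hp (hn _ hq)
      inv_mem' := by
        rintro p (hp | hp)
        · exact Or.inl (A.inv_mem hp)
        · refine Or.inr ?_
          have := (inferInstance : A.Normal).conj_mem _ (A.inv_mem hp) w
          have e : p⁻¹ * w = w * (p * w)⁻¹ * w⁻¹ := by
            rw [mul_inv_rev, hwinv, ← mul_assoc, hw2, one_mul]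
          rwa [e] }
  let K : Subgroup G := X ⊓ centralizer ({z, i} : Set G)
  have hK : ∀ x, x ∈ K ↔ (x ∈ A ∨ x * w ∈ A) ∧ x * z = z * x ∧ x * i = i * x := fun x => by
    show x ∈ X ∧ x ∈ centralizer _ ↔ _
    rw [mem_centralizer_iff]
    constructor
    · exact fun hx => ⟨hx.1, (hx.2 z (Or.inl rfl)).symm, (hx.2 i (Or.inr rfl)).symm⟩
    · exact fun hx => ⟨hx.1, fun t ht => by rcases ht with rfl | rfl; exacts [hx.2.1.symm, hx.2.2.symm]⟩
  have hew : e * w ∈ A := by
    have : e * w = r ^ q := by rw [hedef, mul_assoc, hw2, mul_one]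
    rw [this]; exact hSA (S.zpow_mem hrS q)
  let P₀ : Subgroup G := Subgroup.closure {e, z, i}
  have hP₀K : P₀ ≤ K := (closure_le _).2 (by
    rintro x (rfl | rfl | rfl)
    · exact (hK _).2 ⟨Or.inr hew, hez, hei⟩
    · exact (hK _).2 ⟨Or.inl (hSA hzS), rfl, hzi⟩
    · exact (hK _).2 ⟨Or.inl (hSA hiS), hzi.symm, rfl⟩)
  have hP₀ : IsPGroup 2 P₀ := T.2.to_le ((closure_le _).2 (by
    rintro x (rfl | rfl | rfl)
    exacts [heT, hST hzS, hST hiS]))
  obtain ⟨P, hP⟩ := (hP₀.of_equiv (Subgroup.subgroupOfEquivOfLe hP₀K).symm).exists_le_sylow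
  let P₁ : Subgroup G := (P : Subgroup K).map K.subtype
  have hP₁K : P₁ ≤ K := map_subtype_le _
  have hP₁ : IsPGroup 2 P₁ := P.2.map _
  have hP₀₁ : P₀ ≤ P₁ := fun x hx => ⟨⟨x, hP₀K hx⟩, hP (mem_subgroupOf.2 hx), rfl⟩
  have hP₁A : ∀ p ∈ P₁, p ∈ A → p = 1 ∨ p = z ∨ p = i ∨ p = z * i := by
    intro p hp hpA
    obtain ⟨m, hmA, hm⟩ := exists_conj_mem_of_relIndex_odd hSA hSp hSodd
      (P := P₁ ⊓ A) inf_le_right (hP₁.to_le inf_le_left)
    set z' := m * z * m⁻¹
    set i' := m * i * m⁻¹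
    have hz'S : z' ∈ S := hm z ⟨hP₀₁ (Subgroup.subset_closure (by simp)), hSA hzS⟩
    have hi'S : i' ∈ S := hm i ⟨hP₀₁ (Subgroup.subset_closure (by simp)), hSA hiS⟩
    have hp'S : m * p * m⁻¹ ∈ S := hm p ⟨hp, hpA⟩
    have hpK := ((hK p).1 (hP₁K hp)).2
    have hz'2 : z' * z' = 1 := by simp only [z']; rw [conj_mul, hz2, mul_one, mul_inv_cancel]
    have hi'2 : i' * i' = 1 := by simp only [i']; rw [conj_mul, hi2, mul_one, mul_inv_cancel]
    have hz'i' : z' * i' = i' * z' := by simp only [z', i']; rw [conj_mul, conj_mul, hzi]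
    have hpz : m * p * m⁻¹ * z' = z' * (m * p * m⁻¹) := by
      simp only [z']; rw [conj_mul, conj_mul, hpK.1]
    have hpi : m * p * m⁻¹ * i' = i' * (m * p * m⁻¹) := by
      simp only [i']; rw [conj_mul, conj_mul, hpK.2]
    have hz'1 : z' ≠ 1 := by simpa [z'] using hz1
    have hi'1 : i' ≠ 1 := by simpa [i'] using hi1
    have hzine : z' ≠ i' := fun e' => hiR (by
      have e'' : z = i := by simpa [z', i'] using e'
      exact e'' ▸ ⟨h, rfl⟩)
    -- one of `z'`, `i'` is outside `⟨r⟩`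
    have main : ∀ x y : G, x ∈ S → y ∈ S → x ∉ zpowers r → x * x = 1 → y * y = 1 →
        x * y = y * x → y ≠ 1 → x ≠ y → ∀ s ∈ S, s * x = x * s →
        s = 1 ∨ s = x ∨ s = y ∨ s = x * y := by
      intro x y hx hy hxR hx2 hy2 hxy hy1 hxy' s hs hsx
      have hzy : z = y ∨ z = x * y := by
        rcases hcent x hx hxR hx2 y hy hxy.symm with e | e | e | e
        · exact absurd e hy1
        · exact Or.inl e.symm
        · exact absurd e.symm hxy'
        · refine Or.inr ?_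
          rw [e, ← mul_assoc, (hzT x (hST hx)), mul_assoc, hx2, mul_one]
      rcases hcent x hx hxR hx2 s hs hsx with e | e | e | e
      · exact Or.inl e
      · rcases hzy with e' | e'
        · exact Or.inr (Or.inr (Or.inl (e.trans e')))
        · exact Or.inr (Or.inr (Or.inr (e.trans e')))
      · exact Or.inr (Or.inl e)
      · rcases hzy with e' | e'
        · exact Or.inr (Or.inr (Or.inr (by rw [e, e', hxy])))
        · refine Or.inr (Or.inr (Or.inl ?_))
          rw [e, e', hxy, mul_assoc, hx2, mul_one]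
    have back : ∀ t : G, m * p * m⁻¹ = m * t * m⁻¹ → p = t := fun t ht => by
      simpa using ht
    by_cases hiR' : i' ∈ zpowers r
    · have hz'R : z' ∉ zpowers r := fun hin => hzine
        ((hinvR z' hin hz'2 hz'1).trans (hinvR i' hiR' hi'2 hi'1).symm)
      rcases main z' i' hz'S hi'S hz'R hz'2 hi'2 hz'i' hi'1 hzine _ hp'S hpz with e | e | e | e
      · exact Or.inl (by simpa using e)
      · exact Or.inr (Or.inl (back z e))
      · exact Or.inr (Or.inr (Or.inl (back i e)))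
      · exact Or.inr (Or.inr (Or.inr (back _ (by rw [e]; simp only [z', i']; rw [conj_mul]))))
    · rcases main i' z' hi'S hz'S hiR' hi'2 hz'2 hz'i'.symm hz'1 (Ne.symm hzine) _ hp'S hpi
        with e | e | e | e
      · exact Or.inl (by simpa using e)
      · exact Or.inr (Or.inr (Or.inl (back i e)))
      · exact Or.inr (Or.inl (back z e))
      · refine Or.inr (Or.inr (Or.inr (back _ ?_)))
        rw [e, ← hz'i']; simp only [z', i']; rw [conj_mul]
  have hziZ : z * i * (z * i) = 1 := by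
    calc z * i * (z * i) = z * (i * z) * i := by group
      _ = (z * z) * (i * i) := by rw [← hzi]; group
      _ = 1 := by rw [hz2, hi2, one_mul]
  have hsq : ∀ p ∈ P₁, p * p = 1 ∨ p * p = z := by
    intro p hp
    rcases ((hK p).1 (hP₁K hp)).1 with hpA | hpA
    · rcases hP₁A p hp hpA with rfl | rfl | rfl | rfl
      exacts [Or.inl (one_mul 1), Or.inl hz2, Or.inl hi2, Or.inl hziZ]
    · have hpe : p * e⁻¹ ∈ A := by
        have : p * e⁻¹ = (p * w) * (w * e⁻¹) := by
          calc p * e⁻¹ = p * (w * w) * e⁻¹ := by rw [hw2, mul_one]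
            _ = _ := by group
        rw [this]; exact A.mul_mem hpA hweA
      have hpP : p * e⁻¹ ∈ P₁ := P₁.mul_mem hp
        (P₁.inv_mem (hP₀₁ (Subgroup.subset_closure (by simp))))
      have hcm : (p * e⁻¹) * e = e * (p * e⁻¹) ∧ (p * e⁻¹) * (p * e⁻¹) = 1 := by
        rcases hP₁A _ hpP hpe with e' | e' | e' | e' <;> rw [e']
        · simp
        · exact ⟨hez.symm, hz2⟩
        · exact ⟨hei.symm, hi2⟩
        · exact ⟨by rw [mul_assoc, ← hei, ← mul_assoc, ← hez, mul_assoc], hziZ⟩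
      refine Or.inr ?_
      calc p * p = (p * e⁻¹) * (e * (p * e⁻¹)) * e := by group
        _ = (p * e⁻¹) * (p * e⁻¹) * (e * e) := by rw [← hcm.1]; group
        _ = z := by rw [hcm.2, one_mul, hee]
  set e' := y * e * y⁻¹
  have hyzi : y * (z * i) * y⁻¹ = z := by
    rw [← conj_mul, hyz, hyi, mul_assoc, hi2, mul_one]
  have he'K : e' ∈ K := by
    refine (hK _).2 ⟨Or.inr ?_, ?_, ?_⟩
    · have : e' * w = y * (e * w) * (w * y⁻¹ * w⁻¹) := by
        calc e' * w = y * e * (w * w) * y⁻¹ * w := by rw [hw2, mul_one]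
          _ = _ := by rw [hwinv]; group
      rw [this]
      exact A.mul_mem (A.mul_mem hyA hew)
        ((inferInstance : A.Normal).conj_mem _ (A.inv_mem hyA) w)
    · simp only [e']
      have h0 : (y * e * y⁻¹) * (y * (z * i) * y⁻¹) = (y * (z * i) * y⁻¹) * (y * e * y⁻¹) := by
        rw [conj_mul, conj_mul, ← mul_assoc e, hez, mul_assoc z e, hei, ← mul_assoc z i]
      rwa [hyzi] at h0
    · simp only [e']
      have h0 : (y * e * y⁻¹) * (y * i * y⁻¹) = (y * i * y⁻¹) * (y * e * y⁻¹) := by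
        rw [conj_mul, conj_mul, hei]
      rwa [hyi] at h0
  have he'4 : IsPGroup 2 (zpowers (⟨e', he'K⟩ : K)) := by
    intro g
    refine ⟨2, Subtype.ext ?_⟩
    obtain ⟨j, hj⟩ := mem_zpowers_iff.1 g.2
    show (g : K) ^ 2 ^ 2 = 1
    rw [← hj, ← zpow_natCast, ← zpow_mul, mul_comm, zpow_mul, zpow_natCast]
    have : (⟨e', he'K⟩ : K) ^ 2 ^ 2 = 1 := Subtype.ext (by
      show e' ^ 4 = 1
      simp only [e']
      rw [conj_pow, show e ^ 4 = (e * e) * (e * e) by simp [pow_succ, mul_assoc], hee, hz2,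
        mul_one, mul_inv_cancel])
    rw [this, one_zpow]
  obtain ⟨Q, hQ⟩ := he'4.exists_le_sylow
  obtain ⟨m, hm⟩ := MulAction.exists_smul_eq K Q P
  have hmem : (m : G) * e' * (m : G)⁻¹ ∈ P₁ := by
    refine ⟨m * ⟨e', he'K⟩ * m⁻¹, ?_, rfl⟩
    rw [← hm, Sylow.coe_subgroup_smul]
    exact Subgroup.smul_mem_pointwise_smul _ (MulAut.conj m) _ (hQ (mem_zpowers _))
  have hmK := ((hK m).1 m.2).2
  have e1 : (m : G) * e' * (m : G)⁻¹ * ((m : G) * e' * (m : G)⁻¹) = z * i := by
    rw [conj_mul]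
    simp only [e']
    rw [conj_mul, hee, hyz, ← mul_assoc, hmK.1, mul_assoc z, hmK.2, ← mul_assoc,
      mul_inv_cancel_right]
  rcases hsq _ hmem with e2 | e2
  · rw [e1] at e2
    apply hiR
    rw [show i = z⁻¹ from eq_inv_of_mul_eq_one_right e2]
    exact (zpowers r).inv_mem ⟨h, rfl⟩
  · rw [e1, mul_eq_left] at e2
    exact hi1 e2

end CfsgLib.RankOneSemisimple
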